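import Cfsg.Agent.H689.EB.RankRow
import Cfsg.Agent.H833.F22Cnt
import Cfsg.Agent.OddHalf.D8.Fi22.KTrans

/-!
# TEAM EB: the row `Fi₂₂`

`Fi₂₂` acts on its 3510 transpositions with rank 3, parameters (3510, 693, 180, 126).
-/

set_option autoImplicit false

namespace Cfsg.Agent.H242.EB.Fi22

open Cfsg Cfsg.Agent.H833.F22Cnt Cfsg.Agent.H684.EB Cfsg.Agent.H689.EB

universe u

/-- conjugation on the transpositions -/
@[reducible] def act : MulAction Spor.Fi22 T where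
  smul g t := ⟨g * t * g⁻¹, ctx.conj t.1 t.2 g⟩
  one_smul t := Subtype.ext (by
    show 1 * (t : Spor.Fi22) * 1⁻¹ = t
    group)
  mul_smul g h t := Subtype.ext (by
    show g * h * (t : Spor.Fi22) * (g * h)⁻¹ = g * (h * (t : Spor.Fi22) * h⁻¹) * g⁻¹
    group)

/-- adjacency: different commuting transpositions -/
def A (x y : T) : Prop := (x : Spor.Fi22) ≠ y ∧ (x : Spor.Fi22) * y = y * x

theorem rank3 : letI := act; Rank3 Spor.Fi22 T A 3510 693 180 126 := by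
  letI := act
  have C := ctx
  have hsm : ∀ (g : Spor.Fi22) (t : T), ((g • t : T) : Spor.Fi22) = g * t * g⁻¹ := fun _ _ => rfl
  have hcomm : ∀ (g a b : Spor.Fi22), a * b = b * a → g * a * g⁻¹ * (g * b * g⁻¹) = g * b * g⁻¹ * (g * a * g⁻¹) := by
    intro g a b h
    calc g * a * g⁻¹ * (g * b * g⁻¹) = g * (a * b) * g⁻¹ := by group
      _ = g * (b * a) * g⁻¹ := by rw [h]
      _ = g * b * g⁻¹ * (g * a * g⁻¹) := by group
  constructor
  · rw [Nat.card_coe_set_eq, C.ncard]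
  · rintro x y ⟨h1, h2⟩
    exact ⟨h1.symm, h2.symm⟩
  · rintro x ⟨h1, -⟩
    exact h1 rfl
  · rintro g x y ⟨h1, h2⟩
    refine ⟨fun h => h1 ?_, hcomm g _ _ h2⟩
    rw [hsm, hsm] at h
    exact mul_left_cancel (mul_right_cancel h)
  · intro x y
    obtain ⟨g, hg⟩ := OddHalf.D8.Fi22.kTrans0.trans x x.2 y y.2
    exact ⟨g, Subtype.ext hg⟩
  · rintro x y x' y' ⟨h1, h2⟩ ⟨h3, h4⟩
    obtain ⟨g, h5, h6⟩ := C.transC x x.2 y y.2 x' x'.2 y' y'.2 h1 h3 h2 h4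
    exact ⟨g, Subtype.ext h5, Subtype.ext h6⟩
  · intro x y x' y' h1 h2 h3 h4
    have h5 : (x : Spor.Fi22) * y ≠ y * x := fun h => h2 ⟨fun h' => h1 (Subtype.ext h'), h⟩
    have h6 : (x' : Spor.Fi22) * y' ≠ y' * x' := fun h => h4 ⟨fun h' => h3 (Subtype.ext h'), h⟩
    obtain ⟨g, h7, h8⟩ := C.transN x x.2 y y.2 x' x'.2 y' y'.2 h5 h6
    exact ⟨g, Subtype.ext h7, Subtype.ext h8⟩
  · intro x
    rw [← C.link x x.2, ← Nat.card_coe_set_eq]
    exact Nat.card_congr ⟨fun y => ⟨y.1, y.1.2, fun h => y.2.1 h.symm, y.2.2⟩,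
      fun y => ⟨⟨y.1, y.2.1⟩, fun h => y.2.2.1 h.symm, y.2.2.2⟩, fun y => rfl, fun y => rfl⟩
  · rintro x y ⟨h1, h2⟩
    rw [← lam x.2 y.2 h1 h2, ← Nat.card_coe_set_eq]
    exact Nat.card_congr ⟨fun z => ⟨z.1, z.1.2, fun h => z.2.1.1 h.symm, fun h => z.2.2.1 h.symm, z.2.1.2, z.2.2.2⟩,
      fun z => ⟨⟨z.1, z.2.1⟩, ⟨fun h => z.2.2.1 h.symm, z.2.2.2.2.1⟩, ⟨fun h => z.2.2.2.1 h.symm, z.2.2.2.2.2⟩⟩,
      fun z => rfl, fun z => rfl⟩
  · intro x y h1 h2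
    have h5 : (x : Spor.Fi22) * y ≠ y * x := fun h => h2 ⟨fun h' => h1 (Subtype.ext h'), h⟩
    rw [← mu x.2 y.2 h5, ← Nat.card_coe_set_eq]
    exact Nat.card_congr ⟨fun z => ⟨z.1, z.1.2, z.2.1.2, z.2.2.2⟩,
      fun z => ⟨⟨z.1, z.2.1⟩, ⟨fun h => h5 (by rw [show (x : Spor.Fi22) = (z : Spor.Fi22) from h]; exact z.2.2.2.symm), z.2.2.1⟩,
        ⟨fun h => h5 (by rw [show (y : Spor.Fi22) = (z : Spor.Fi22) from h]; exact z.2.2.1), z.2.2.2⟩⟩,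
      fun z => rfl, fun z => rfl⟩

theorem haut (α : Spor.Fi22 ≃* Spor.Fi22) : letI := act; ∃ p : Equiv.Perm T, ∀ (s : Spor.Fi22) (x : T), α s • p x = p (s • x) := by
  letI := act
  refine ⟨⟨fun x => ⟨α x, OddHalf.D8.Fi22.kTrans0.aut α x x.2⟩,
    fun x => ⟨α.symm x, OddHalf.D8.Fi22.kTrans0.aut α.symm x x.2⟩,
    fun x => Subtype.ext (α.symm_apply_apply _), fun x => Subtype.ext (α.apply_symm_apply _)⟩, fun s x => Subtype.ext ?_⟩
  show α s * α x * (α s)⁻¹ = α (s * x * s⁻¹)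
  rw [map_mul, map_mul, map_inv]

/-- **The row `Fi₂₂`.** -/
theorem evenB {S : Type u} [Group S] (h : Spor.IsoFi22 S) : EvenB S := by
  obtain ⟨e⟩ := h
  letI := act
  exact evenB_of_rank3' rank3 (by norm_num) (by norm_num) (by decide) (by decide) (by decide) haut e.symm

end Cfsg.Agent.H242.EB.Fi22
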