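import Cfsg.Agent.H689.EB.RankRow
import Cfsg.Agent.H522.EB.RankThree
import Cfsg.Agent.LThreeFi24.Base24
import Cfsg.Agent.KFacts.FiTF.FrameF

/-!
# TEAM EB: the row `Fi₂₄'`

`Fi₂₄'` acts on the 306936 transpositions of `Fi₂₄` with rank 3, valency 31671; the two numbers of common
neighbours are even (they are 3510 and 3240, only the parity is proved).
-/

set_option autoImplicit false
set_option maxRecDepth 10000

namespace Cfsg.Agent.H242.EB.Fi24

open Cfsg Cfsg.Agent.R08 Cfsg.Agent.R08.FiTwentyFour Cfsg.Agent.H684.EB Cfsg.Agent.H689.EB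
open Cfsg.Spor (Fi24)
open Cfsg.Agent.Fischer.Fi24Rep (gen)

universe u

local notation "L" => Cfsg.Agent.R08.FiTwentyFour.L

/-- transitivity of `Fi24'` on the noncommuting pairs (proof of helper30) -/
theorem noncomm_trans {a b a' b' : Fi24} (ha : a ∈ L) (hb : b ∈ L) (ha' : a' ∈ L) (hb' : b' ∈ L) (hn : ¬ Commute a b)
    (hn' : ¬ Commute a' b') : ∃ g ∈ commutator Fi24, g * a * g⁻¹ = a' ∧ g * b * g⁻¹ = b' := by
  obtain ⟨g, h1, h2⟩ := LThreeFi24.Base24.noncomm_trans ha hb ha' hb' hn hn'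
  by_cases hg : g ∈ commutator Fi24
  · exact ⟨g, hg, h1, h2⟩
  · -- a transposition commuting with `a` and `b`
    have hlk : ¬ Commute (gen .l) (gen .k) := by
      intro h
      have h1 : Fischer.Fi24Rep.rho (gen .l) 307872 = 307872 :=
        ((KFacts.FiTF.FixMask.isPt_gen .k).comm_iff _).1 h
      have h2 : Lib.PermNetPt.chkPt (Fischer.Fi24RepDef.nw [.l] false) 307872 307840 = true := by decide +kernel
      have h3 := KFacts.FiTF.Pts.rho_of_chkPt h2
      rw [LThreeFi24.Base24.word_one'] at h3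
      rw [h1] at h3
      exact absurd h3 (by norm_num)
    obtain ⟨u, hu1, hu2⟩ := LThreeFi24.Base24.noncomm_trans (LThreeFi24.Base24.gen_mem .l) (LThreeFi24.Base24.gen_mem .k)
      ha hb hlk hn
    have hlb : gen .b * gen .l * (gen .b)⁻¹ = gen .l := by
      rw [Fischer.Fi24Final.gen_comm (x := .b) (y := .l) (by decide)]; group
    have hkb : gen .b * gen .k * (gen .b)⁻¹ = gen .k := by
      rw [Fischer.Fi24Final.gen_comm (x := .b) (y := .k) (by decide)]; group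
    set t := u * gen .b * u⁻¹ with ht
    have hta : t * a * t⁻¹ = a := by
      rw [ht, ← hu1]
      calc u * gen .b * u⁻¹ * (u * gen .l * u⁻¹) * (u * gen .b * u⁻¹)⁻¹ = u * (gen .b * gen .l * (gen .b)⁻¹) * u⁻¹ := by
            group
        _ = u * gen .l * u⁻¹ := by rw [hlb]
    have htb : t * b * t⁻¹ = b := by
      rw [ht, ← hu2]
      calc u * gen .b * u⁻¹ * (u * gen .k * u⁻¹) * (u * gen .b * u⁻¹)⁻¹ = u * (gen .b * gen .k * (gen .b)⁻¹) * u⁻¹ := by
            group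
        _ = u * gen .k * u⁻¹ := by rw [hkb]
    have htL : t ∈ L := FiTwentyFour.conj (LThreeFi24.Base24.gen_mem .b) u
    refine ⟨g * t, ?_, ?_, ?_⟩
    · rw [mem_commutator_iff] at hg ⊢
      have h3 := sgn_L htL
      rw [map_mul, h3]
      rcases Int.units_eq_one_or (Fischer.Fi24Final.sgn g) with h4 | h4
      · exact absurd h4 hg
      · rw [h4]; decide
    · calc g * t * a * (g * t)⁻¹ = g * (t * a * t⁻¹) * g⁻¹ := by group
        _ = a' := by rw [hta, h1]
    · calc g * t * b * (g * t)⁻¹ = g * (t * b * t⁻¹) * g⁻¹ := by group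
        _ = b' := by rw [htb, h2]

/-- the action on the transpositions -/
@[reducible] def act : MulAction Spor.Fi24' (L : Set Fi24) where
  smul g t := ⟨(g : Fi24) * t * (g : Fi24)⁻¹, FiTwentyFour.conj t.2 _⟩
  one_smul t := Subtype.ext (by
    show ((1 : Spor.Fi24') : Fi24) * t * ((1 : Spor.Fi24') : Fi24)⁻¹ = t
    push_cast
    group)
  mul_smul g h t := Subtype.ext (by
    show ((g * h : Spor.Fi24') : Fi24) * (t : Fi24) * ((g * h : Spor.Fi24') : Fi24)⁻¹ =
      (g : Fi24) * ((h : Fi24) * t * (h : Fi24)⁻¹) * (g : Fi24)⁻¹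
    push_cast
    group)

/-- adjacency: different commuting transpositions -/
def A (x y : (L : Set Fi24)) : Prop := (x : Fi24) ≠ y ∧ Commute (x : Fi24) y

/-- the discriminants of the possible parameters -/
def disc (c : ℕ) : ℕ := Int.toNat ((31670 - 785 * (c : ℤ)) * (31670 - 785 * c) - 4 * (81 * c - 31671))

theorem chk : ∀ c : ℕ, c < 45 → c % 2 = 0 ∨ Nat.sqrt (disc c) * Nat.sqrt (disc c) ≠ disc c := by
  decide +kernel

theorem params {a b : ℕ} (h1 : 31671 * (31670 - a) = 275264 * b) (h2 : a + 1 ≤ 31671)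
    (h3 : IsSquare (((a : ℤ) - b) ^ 2 + 4 * (31671 - (b : ℤ)))) : Even a ∧ Even b := by
  have h8 : b % 81 = 0 := by omega
  obtain ⟨c, rfl⟩ : ∃ c, b = 81 * c := ⟨b / 81, by omega⟩
  have hc : c < 45 := by omega
  have ha : a = 31670 - 704 * c := by omega
  have ha' : (a : ℤ) = 31670 - 704 * c := by omega
  refine ⟨⟨15835 - 352 * c, by omega⟩, ?_⟩
  obtain ⟨m, hm⟩ := h3
  have h4 : disc c = m.natAbs * m.natAbs := by
    unfold disc
    rw [← Int.natAbs_mul]
    have h5 : (31670 - 785 * (c : ℤ)) * (31670 - 785 * c) - 4 * (81 * c - 31671) = m * m := by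
      rw [← hm, ha']
      push_cast
      ring
    rw [h5]
    have h6 : 0 ≤ m * m := mul_self_nonneg m
    omega
  rcases chk c hc with h5 | h5
  · exact ⟨81 * (c / 2), by omega⟩
  · exfalso
    apply h5
    rw [h4, Nat.sqrt_eq]

theorem finite_fi24' : Finite Spor.Fi24' := by
  have : Finite Fi24 := finite_Fi24
  exact Subtype.finite

theorem rank3 : letI := act; ∃ lam mu : ℕ, Even lam ∧ Even mu ∧ Rank3 Spor.Fi24' (L : Set Fi24) A 306936 31671 lam mu := by
  let _ := act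
  have hfin : Finite Fi24 := finite_Fi24
  have hfin' : Finite Spor.Fi24' := finite_fi24'
  have : Fintype Spor.Fi24' := Fintype.ofFinite _
  have : Fintype (L : Set Fi24) := Fintype.ofFinite _
  have hsm : ∀ (g : Spor.Fi24') (t : (L : Set Fi24)), ((g • t : (L : Set Fi24)) : Fi24) = g * t * (g : Fi24)⁻¹ :=
    fun g t => rfl
  have hcard : ∀ x : (L : Set Fi24), Nat.card {y : (L : Set Fi24) // A x y} = 31671 := by
    intro x
    rw [← ncard_commuting x.2, ← Nat.card_coe_set_eq]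
    exact Nat.card_congr ⟨fun y => ⟨y.1, y.1.2, fun h => y.2.1 h.symm, y.2.2.symm⟩,
      fun y => ⟨⟨y.1, y.2.1⟩, fun h => y.2.2.1 h.symm, y.2.2.2.symm⟩, fun y => rfl, fun y => rfl⟩
  have hex : ∀ x : (L : Set Fi24), ∃ y : (L : Set Fi24), A x y := by
    intro x
    have h1 := hcard x
    by_contra hcon
    have : IsEmpty {y : (L : Set Fi24) // A x y} := ⟨fun y => hcon ⟨y.1, y.2⟩⟩
    rw [Nat.card_of_isEmpty] at h1
    norm_num at h1
  have conjc : ∀ (g x y : Fi24), Commute x y → Commute (g * x * g⁻¹) (g * y * g⁻¹) := by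
    intro g x y h
    show g * x * g⁻¹ * (g * y * g⁻¹) = g * y * g⁻¹ * (g * x * g⁻¹)
    calc g * x * g⁻¹ * (g * y * g⁻¹) = g * (x * y) * g⁻¹ := by group
      _ = g * (y * x) * g⁻¹ := by rw [h.eq]
      _ = g * y * g⁻¹ * (g * x * g⁻¹) := by group
  obtain ⟨lam, mu, h1, h2, h3, h4⟩ := Cfsg.Agent.H522.EB.Rank3.exists (S := Spor.Fi24') (X := (L : Set Fi24)) A 306936 31671
    (by rw [Nat.card_coe_set_eq, ncard_L])
    (by
      rintro x y ⟨h1, h2⟩
      exact ⟨h1.symm, h2.symm⟩)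
    (by
      rintro x ⟨h1, -⟩
      exact h1 rfl)
    (by
      rintro g x y ⟨h1, h2⟩
      refine ⟨fun h => h1 ?_, ?_⟩
      · rw [hsm, hsm] at h
        exact mul_left_cancel (mul_right_cancel h)
      · rw [hsm, hsm]
        exact conjc g x y h2)
    (by
      intro x y
      obtain ⟨c, h1, h2⟩ := hex x
      obtain ⟨c', h1', h2'⟩ := hex y
      obtain ⟨g, hg, h3, -⟩ := trans2 x.2 c.2 y.2 c'.2 h1 h2 h1' h2'
      exact ⟨⟨g, hg⟩, Subtype.ext h3⟩)
    (by
      rintro x y x' y' ⟨h1, h2⟩ ⟨h3, h4⟩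
      obtain ⟨g, hg, hg1, hg2⟩ := trans2 x.2 y.2 x'.2 y'.2 h1 h2 h3 h4
      exact ⟨⟨g, hg⟩, Subtype.ext hg1, Subtype.ext hg2⟩)
    (by
      intro x y x' y' h1 h2 h3 h4
      have h5 : ¬ Commute (x : Fi24) y := fun h => h2 ⟨fun h' => h1 (Subtype.ext h'), h⟩
      have h6 : ¬ Commute (x' : Fi24) y' := fun h => h4 ⟨fun h' => h3 (Subtype.ext h'), h⟩
      obtain ⟨g, hg, hg1, hg2⟩ := noncomm_trans x.2 y.2 x'.2 y'.2 h5 h6
      exact ⟨⟨g, hg⟩, Subtype.ext hg1, Subtype.ext hg2⟩)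
    hcard (by norm_num) (by norm_num) (by decide)
  obtain ⟨h5, h6⟩ := params h2 h3 (by exact_mod_cast h4)
  exact ⟨lam, mu, h5, h6, ⟨h1.card, h1.symm, h1.irrefl, h1.inv, h1.trans, h1.orb1, h1.orb2, h1.deg, h1.lam_eq,
    h1.mu_eq⟩⟩

theorem haut (α : Spor.Fi24' ≃* Spor.Fi24') : letI := act;
    ∃ p : Equiv.Perm (L : Set Fi24), ∀ (s : Spor.Fi24') (x : (L : Set Fi24)), α s • p x = p (s • x) := by
  letI := act
  obtain ⟨g, hg⟩ := KFacts.FiTF.exists_conj α
  refine ⟨⟨fun x => ⟨g * x * g⁻¹, FiTwentyFour.conj x.2 g⟩, fun x => ⟨g⁻¹ * x * g⁻¹⁻¹, FiTwentyFour.conj x.2 g⁻¹⟩,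
    fun x => Subtype.ext (by
      show g⁻¹ * (g * (x : Fi24) * g⁻¹) * g⁻¹⁻¹ = x
      group), fun x => Subtype.ext (by
      show g * (g⁻¹ * (x : Fi24) * g⁻¹⁻¹) * g⁻¹ = x
      group)⟩, fun s x => Subtype.ext ?_⟩
  show ((α s : Spor.Fi24') : Fi24) * (g * (x : Fi24) * g⁻¹) * ((α s : Spor.Fi24') : Fi24)⁻¹ =
    g * ((s : Fi24) * (x : Fi24) * (s : Fi24)⁻¹) * g⁻¹
  have h1 : ((α s : Spor.Fi24') : Fi24) = g * s * g⁻¹ := hg s
  rw [h1]
  group

/-- **The row `Fi₂₄'`.** -/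
theorem evenB {S : Type u} [Group S] (h : Spor.IsoFi24' S) : EvenB S := by
  obtain ⟨e⟩ := h
  letI := act
  have hfin : Finite Fi24 := finite_Fi24
  obtain ⟨lam, mu, hl, hm, h1⟩ := rank3
  exact evenB_of_rank3' h1 (by norm_num) (by norm_num) (by decide) hl hm haut e.symm

end Cfsg.Agent.H242.EB.Fi24
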