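import Cfsg.Agent.H242.EB.Fi22
import Cfsg.Agent.H242.EB.Fi24
import Cfsg.Agent.S2079
import Cfsg.Agent.S2081

/-!
# S4515 / S4522, the rows `Fi₂₂`, `Fi₂₄'`: `EvenJ` (helper242)
-/

set_option autoImplicit false

namespace Cfsg.Agent.H242.EB

open Cfsg Cfsg.Agent.H684.EB

universe u

/-- If `Out T` has order two the square of every automorphism of a group isomorphic to `T` is inner. -/
theorem sq_of_out_two {T : Type*} [Group T] (h : Nat.card (Cfsg.Out T) = 2) {S : Type*} [Group S] (e : S ≃* T)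
    (α : S ≃* S) : ∃ j : ℕ, ∃ s : S, ∀ x : S, ((α : MulAut S) ^ 2 ^ j) x = s * x * s⁻¹ := by
  let β : MulAut T := (e.symm.trans α).trans e
  have h1 : β ^ 2 ∈ Cfsg.Inn T := by
    rw [← QuotientGroup.eq_one_iff]
    have h2 : (QuotientGroup.mk β : Cfsg.Out T) ^ Nat.card (Cfsg.Out T) = 1 := pow_card_eq_one'
    rw [h] at h2
    exact h2
  obtain ⟨t, ht⟩ := h1
  refine ⟨1, e.symm t, fun x => ?_⟩
  have h3 : (β ^ 2) (e x) = e ((((α : MulAut S)) ^ 2 ^ 1) x) := by
    rw [pow_one, pow_two, pow_two, MulAut.mul_apply, MulAut.mul_apply]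
    show e (α (e.symm (e (α (e.symm (e x)))))) = e (α (α x))
    rw [e.symm_apply_apply, e.symm_apply_apply]
  apply e.injective
  rw [← h3, ← ht, map_mul, map_mul, map_inv, e.apply_symm_apply]
  rfl

/-- **`EvenJ Fi₂₂`** -/
theorem Fi22.evenJ {S : Type u} [Group S] (h : Spor.IsoFi22 S) : EvenJ S := by
  refine evenJ_of_inner (fun α => ?_) (Fi22.evenB h)
  obtain ⟨e⟩ := h
  exact sq_of_out_two S2079.result e α

/-- **`EvenJ Fi₂₄'`** -/
theorem Fi24.evenJ {S : Type u} [Group S] (h : Spor.IsoFi24' S) : EvenJ S := by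
  refine evenJ_of_inner (fun α => ?_) (Fi24.evenB h)
  obtain ⟨e⟩ := h
  exact sq_of_out_two S2081.result e α

end Cfsg.Agent.H242.EB
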